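import Cfsg.Agent.H789.Ore.HNComp_m3
import Cfsg.Agent.KFacts.HN.Sheet
import Cfsg.Agent.H529.Inv.Coset
import Cfsg.Agent.Lib.PermCode
import Cfsg.Agent.FastGrp
import Cfsg.Agent.Prune
set_option linter.all false
prune_inst 0x7f00000000000000000000000000000000000000000000000000000000000000000000000000000000000000000000000000000000000000000000000000000000000000000000000000000000000000003fffffffffffffffffffffffffffbeffbdffffffff
open scoped Cfsg.Agent.FastGrp

/-!
# S4171, row HN: elements with a power conjugate to the 2-central involution `W0` (helper728)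

`PP = C(W0)`, `ρ : PP → Lq = (A5 × A5).2` with kernel `R = 2^(1+8)`.

* `i4_ker` : elements of order 4 of `R` are products of two involutions of `R`;
* `card_le_LL` : `|C(g)| ≤ 25600` for `ρ g ∈ A5 × A5`, `ρ g ≠ 1`;
* `i4_of_conj_W0` : if all `g` with `|C(g)| ≤ 28880` are products of four involutions, so are the elements with a power
  conjugate to `W0`.
-/

set_option autoImplicit false

namespace Cfsg.Agent.H728.Four.HNCent

open Cfsg.Agent.HN Cfsg.Agent.HN.Pres Cfsg.Agent.HN.P1408 Cfsg.Agent.HN.H0Basic Cfsg.Agent.HN.XMat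
open Cfsg.Agent.HN.XStruct Cfsg.Agent.HN.XWords Cfsg.Agent.HN.XQuot Cfsg.Agent.HN.XInst
open Cfsg.Agent
open Cfsg.Agent.KFacts.HN
open Cfsg.Agent.CpAutHN.LqFacts Cfsg.Agent.CpAutHN.PPFacts
open Cfsg.Agent.SporadicA.PermTab (band_eq_true allB allB_iff)
open Cfsg.Agent.H981.Ore.HNMM Cfsg.Agent.H981.Ore.HNPP
open Cfsg.Agent.H777.Ore (I4)

instance : Finite Cfsg.Spor.HN := finite_HN

/-! ### The kernel -/

/-- involution masks -/
def CI : ℕ := Nat.lor CD CS

theorem chkI : allB (fun m => bif tst CF 0 m then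
    Bool.not (allB (fun n => Bool.not (Bool.and (tst CI 0 n) (tst CI m n))) 256) else true) 256 = true := by
  decide +kernel

theorem tst_zero {c n : ℕ} : tst c 0 n = true ↔ c.testBit n = true := by rw [tst_iff, Nat.zero_xor]

theorem exists_mask {m : ℕ} (hm : m < 256) (h : CF.testBit m = true) :
    ∃ n < 256, CI.testBit n = true ∧ CI.testBit (m ^^^ n) = true := by
  have h1 := (allB_iff _ _).1 chkI m hm
  rw [tst_zero.2 h, cond_true, Bool.not_eq_true'] at h1
  by_contra hno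
  push Not at hno
  have h2 : allB (fun n => Bool.not (Bool.and (tst CI 0 n) (tst CI m n))) 256 = true := by
    rw [allB_iff]
    intro n hn
    rw [Bool.not_eq_true', ← Bool.not_eq_true, Bool.and_eq_true]
    rintro ⟨h3, h4⟩
    exact hno n hn (tst_zero.1 h3) (tst_iff.1 h4)
  rw [h2] at h1
  exact absurd h1 (by decide)

theorem sq_of_conj {x y : Cfsg.Spor.HN} (h : IsConj x y) (hx : x * x = 1) : y * y = 1 := by
  obtain ⟨c, rfl⟩ := isConj_iff.1 h
  calc c * x * c⁻¹ * (c * x * c⁻¹) = c * (x * x) * c⁻¹ := by group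
    _ = 1 := by rw [hx]; group

theorem Q0_sq : Q 0 * Q 0 = 1 := Q_sq (by norm_num)

theorem sq_one {n : ℕ} (hn : n < 256) (h : CI.testBit n = true) (b : Bool) :
    (r Q n * sgn0 b) * (r Q n * sgn0 b) = 1 := by
  have h1 : CD.testBit n = true ∨ CS.testBit n = true := by
    have h2 : (CD ||| CS).testBit n = true := h
    rw [Nat.testBit_or, Bool.or_eq_true] at h2
    exact h2
  rcases h1 with h1 | h1
  · exact sq_of_conj (kind_D hn h1 b) Q0_sq
  · exact sq_of_conj (kind_S hn h1 b) W0_sq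

theorem i4_of_two {x u v : Cfsg.Spor.HN} (hu : u * u = 1) (hv : v * v = 1) (h : x = u * v) : I4 x :=
  ⟨u, v, 1, 1, hu, hv, mul_one 1, mul_one 1, by rw [h, mul_one, mul_one]⟩

/-- **the elements of the kernel** -/
theorem i4_ker {x : PP} (hx : x ∈ ρ.ker) : I4 (x : Cfsg.Spor.HN) := by
  obtain ⟨m, hm, c, h1⟩ := mem_ker_val hx
  have one_sq : (1 : Cfsg.Spor.HN) * 1 = 1 := mul_one 1
  rcases kinds hm with rfl | h | h | h
  · rw [show r Q 0 = 1 from Bas.r_zero, one_mul] at h1
    rcases sgn0_cases c with h | h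
    · exact i4_of_two one_sq one_sq (by rw [h1, h, one_sq])
    · exact i4_of_two W0_sq one_sq (by rw [h1, h, mul_one])
  · exact i4_of_two (sq_of_conj (h.2 c) Q0_sq) one_sq (by rw [h1, mul_one])
  · exact i4_of_two (sq_of_conj (h.2 c) W0_sq) one_sq (by rw [h1, mul_one])
  · obtain ⟨n, hn, e1, e2⟩ := exists_mask hm h.1
    have hmn : m ^^^ n < 256 := Nat.xor_lt_two_pow (n := 8) hm hn
    obtain ⟨b, hb⟩ := mul_r_sgn n (m ^^^ n) false false
    have hx1 : n ^^^ (m ^^^ n) = m := by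
      rw [Nat.xor_comm m n, ← Nat.xor_assoc, Nat.xor_self, Nat.zero_xor]
    rw [hx1] at hb
    -- adjust the sign
    obtain ⟨b', hb'⟩ : ∃ b' : Bool, r Q m * sgn0 c = r Q n * sgn0 false * (r Q (m ^^^ n) * sgn0 b') := by
      refine ⟨b ^^ c, ?_⟩
      have e3 : sgn0 (b ^^ c) = sgn0 false * sgn0 (b ^^ c) := by rw [sgn0_mul, Bool.false_xor]
      calc r Q m * sgn0 c = r Q m * sgn0 b * sgn0 (b ^^ c) := by
            rw [mul_assoc, sgn0_mul, ← Bool.xor_assoc, Bool.xor_self, Bool.false_xor]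
        _ = r Q n * sgn0 false * (r Q (m ^^^ n) * sgn0 false) * sgn0 (b ^^ c) := by rw [hb]
        _ = r Q n * sgn0 false * (r Q (m ^^^ n) * (sgn0 false * sgn0 (b ^^ c))) := by group
        _ = _ := by rw [← e3]
    exact i4_of_two (sq_one hn e1 false) (sq_one hmn e2 b') (h1.trans hb')

/-! ### Centralizers in `A5` -/

theorem cent5 : ∀ a : Equiv.Perm (Fin 5), Equiv.Perm.sign a = 1 → a ≠ 1 →
    (Finset.univ.filter fun b : Equiv.Perm (Fin 5) => Equiv.Perm.sign b = 1 ∧ b * a = a * b).card ≤ 5 := by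
  simp only [↓Cfsg.Agent.PermCode.M, Cfsg.Agent.PermCode.P5.R, Cfsg.Agent.PermCode.B]
  decide +kernel

theorem card_A5_le {a : A5} (ha : a ≠ 1) : Nat.card (Subgroup.centralizer ({a} : Set A5)) ≤ 5 := by
  classical
  have h1 := cent5 (a : Equiv.Perm (Fin 5)) (Equiv.Perm.mem_alternatingGroup.1 a.2) (fun h => ha (Subtype.ext h))
  refine le_trans ?_ h1
  rw [← Nat.card_eq_finsetCard]
  refine Nat.card_le_card_of_injective (fun b : Subgroup.centralizer ({a} : Set A5) =>
    (⟨((b : A5) : Equiv.Perm (Fin 5)), Finset.mem_filter.2 ⟨Finset.mem_univ _,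
      Equiv.Perm.mem_alternatingGroup.1 (b : A5).2,
      congrArg Subtype.val (Subgroup.mem_centralizer_singleton_iff.1 b.2)⟩⟩ :
      {x // x ∈ Finset.univ.filter fun b : Equiv.Perm (Fin 5) => Equiv.Perm.sign b = 1 ∧
        b * (a : Equiv.Perm (Fin 5)) = (a : Equiv.Perm (Fin 5)) * b})) ?_
  intro b b' h
  have h1 := congrArg Subtype.val h
  exact Subtype.ext (Subtype.ext h1)

instance : Finite A5 := Nat.finite_of_card_ne_zero (by rw [card_A5]; norm_num)

/-! ### Centralizers in `Lq` -/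

theorem comm_cent {a s : A5} (h : s * a * s⁻¹ = a) : s ∈ Subgroup.centralizer ({a} : Set A5) :=
  Subgroup.mem_centralizer_singleton_iff.2 (mul_inv_eq_iff_eq_mul.1 h)

theorem card_J_two {J : Subgroup Lq} {a b : A5} (ha : a ≠ 1) (hb : b ≠ 1)
    (hJ : ∀ z ∈ J, z * (φA a * φB b) = φA a * φB b * z) : Nat.card ↥J ≤ 50 := by
  classical
  have h0 : ∀ z : ↥(J ⊓ LL), ∃ t : Subgroup.centralizer ({a} : Set A5) × Subgroup.centralizer ({b} : Set A5),
      φA t.1 * φB t.2 = (z : Lq) := by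
    intro z
    obtain ⟨s, t, hst⟩ := mem_LL.1 z.2.2
    have h1 : φA s * φB t * (φA a * φB b) * (φA s * φB t)⁻¹ = φA a * φB b := by
      rw [hst, hJ _ z.2.1]; group
    rw [conj_AB] at h1
    obtain ⟨h2, h3⟩ := φ2_inj h1
    exact ⟨(⟨s, comm_cent h2⟩, ⟨t, comm_cent h3⟩), hst⟩
  choose f hf using h0
  have hinj : Function.Injective f := fun u v huv => Subtype.ext (by rw [← hf u, ← hf v, huv])
  have h1 : Nat.card ↥(J ⊓ LL) ≤ 25 := by
    have h2 := Nat.card_le_card_of_injective f hinj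
    rw [Nat.card_prod] at h2
    exact h2.trans (Nat.mul_le_mul (card_A5_le ha) (card_A5_le hb))
  have h2 : LL.relIndex J ∣ 2 := by
    rw [← index_LL]
    exact Subgroup.relIndex_dvd_index_of_normal LL J
  have h3 : Nat.card ↥(J ⊓ LL) * LL.relIndex J = Nat.card ↥J := by
    rw [← Subgroup.relIndex_bot_left, ← Subgroup.relIndex_bot_left, inf_comm, ← Subgroup.inf_relIndex_right LL J]
    exact Subgroup.relIndex_mul_relIndex _ _ _ bot_le inf_le_right
  have h4 := Nat.le_of_dvd (by norm_num) h2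
  rw [← h3]
  exact Nat.mul_le_mul h1 h4

theorem card_J_one {J : Subgroup Lq} {a : A5} (ha : a ≠ 1) (hJ : ∀ z ∈ J, z * φA a = φA a * z) :
    Nat.card ↥J ≤ 300 := by
  classical
  have h0 : ∀ z : ↥J, ∃ t : Subgroup.centralizer ({a} : Set A5) × A5, φA t.1 * φB t.2 = (z : Lq) := by
    intro z
    obtain ⟨s, t, hst⟩ := mem_LL.1 (mem_LL_of_comm ha (hJ z z.2))
    have h1 : φA s * φB t * φA a * (φA s * φB t)⁻¹ = φA a := by
      rw [hst, hJ _ z.2]; group
    rw [conj_A] at h1
    exact ⟨(⟨s, comm_cent (φA_inj h1)⟩, t), hst⟩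
  choose f hf using h0
  have hinj : Function.Injective f := fun u v huv => Subtype.ext (by rw [← hf u, ← hf v, huv])
  have h2 := Nat.card_le_card_of_injective f hinj
  rw [Nat.card_prod, card_A5] at h2
  exact h2.trans (Nat.mul_le_mul_right 60 (card_A5_le ha))

/-! ### Fixed masks -/

theorem AL_one_cnt : AL.all (fun P => Nat.beq P MI || Nat.ble (cntF P) 16) = true := by decide +kernel

theorem card_ker_A {x : PP} {a : A5} (ha : a ≠ 1) (hx : ρ x = φA a) : Nat.card ↥(CP x ⊓ ρ.ker) ≤ 32 := by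
  classical
  obtain ⟨w, hw, hA⟩ := GA_all a
  have hρ : ρ x = e w := by rw [hx, hw]
  have hMI : mw w ≠ MI := by
    intro h
    apply ha
    apply φA_inj
    rw [hw, map_one, ← e_nil]
    exact e_eq (by rw [h, mw_nil])
  have hcnt : cntF (mw w) ≤ 16 := by
    have h1 := List.all_eq_true.1 AL_one_cnt _ hA
    rw [Bool.or_eq_true] at h1
    rcases h1 with h1 | h1
    · exact absurd (Nat.eq_of_beq_eq_true h1) hMI
    · exact Nat.le_of_ble_eq_true h1
  obtain ⟨L, hL, hm⟩ : ∃ L : List ℕ, L.length ≤ 16 ∧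
      ∀ (v : PP) (m : ℕ) (_ : m < 256) (c : Bool), (v : Cfsg.Spor.HN) = r Q m * sgn0 c → v * x = x * v → m ∈ L := by
    refine ⟨(List.range 256).filter fun m => Nat.beq (app (mw w) m) m, hcnt, ?_⟩
    intro v m hm c hv hc
    have h2 := app_eq_of_comm hρ hm hv hc
    exact List.mem_filter.2 ⟨List.mem_range.2 hm, by
      show Nat.beq _ _ = true
      rw [h2, Nat.beq_refl]⟩
  have h0 : ∀ v : ↥(CP x ⊓ ρ.ker), ∃ y : Fin L.length × Bool, ((v : PP) : Cfsg.Spor.HN) =
      r Q (L.get y.1) * sgn0 y.2 := by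
    rintro ⟨v, hv1, hv2⟩
    obtain ⟨m, hm', c, hvm⟩ := mem_ker_iff.1 hv2
    have h1 : v * x = x * v := Subgroup.mem_centralizer_singleton_iff.1 hv1
    obtain ⟨i, hi⟩ := List.get_of_mem (hm v m hm' c hvm h1)
    refine ⟨(i, c), ?_⟩
    change (v : Cfsg.Spor.HN) = _
    rw [hvm, hi]
  choose f hf using h0
  have hinj : Function.Injective f := by
    intro u v huv
    apply Subtype.ext
    apply Subtype.ext
    rw [hf u, hf v, huv]
  have h2 := Nat.card_le_card_of_injective f hinj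
  rw [Nat.card_prod, Nat.card_eq_fintype_card (α := Fin _), Nat.card_eq_fintype_card (α := Bool), Fintype.card_fin,
    Fintype.card_bool] at h2
  omega

/-! ### The centralizers -/

theorem card_CP_eq (x : PP) (f : ↥(CP x) →* Lq) (hf : f = ρ.comp (CP x).subtype) :
    Nat.card ↥(CP x) = Nat.card ↥(CP x ⊓ ρ.ker) * Nat.card ↥f.range := by
  have h2 : Nat.card ↥f.ker = Nat.card ↥(CP x ⊓ ρ.ker) := by
    subst hf
    refine Nat.card_congr
      { toFun := fun v => ⟨(v : ↥(CP x)), (v : ↥(CP x)).2, v.2⟩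
        invFun := fun v => ⟨⟨(v : PP), v.2.1⟩, v.2.2⟩
        left_inv := fun _ => rfl
        right_inv := fun _ => rfl }
  rw [← h2, ← f.ker.card_mul_index, Subgroup.index_ker]

theorem card_A {x : PP} {a : A5} (ha : a ≠ 1) (hx : ρ x = φA a) : Nat.card ↥(CP x) ≤ 9600 := by
  rw [card_CP_eq x _ rfl]
  have h2 : Nat.card ↥(ρ.comp (CP x).subtype).range ≤ 300 := by
    apply card_J_one ha
    rintro _ ⟨v, rfl⟩
    have h3 : (v : PP) * x = x * v := Subgroup.mem_centralizer_singleton_iff.1 v.2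
    change ρ (v : PP) * _ = _ * ρ (v : PP)
    rw [← hx, ← map_mul, h3, map_mul]
  exact Nat.mul_le_mul (card_ker_A ha hx) h2

theorem card_AB {x : PP} {a b : A5} (ha : a ≠ 1) (hb : b ≠ 1) (hx : ρ x = φA a * φB b) :
    Nat.card ↥(CP x) ≤ 25600 := by
  rw [card_CP_eq x _ rfl]
  have h2 : Nat.card ↥(ρ.comp (CP x).subtype).range ≤ 50 := by
    apply card_J_two ha hb
    rintro _ ⟨v, rfl⟩
    have h3 : (v : PP) * x = x * v := Subgroup.mem_centralizer_singleton_iff.1 v.2
    change ρ (v : PP) * _ = _ * ρ (v : PP)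
    rw [← hx, ← map_mul, h3, map_mul]
  have h1 : Nat.card ↥(CP x ⊓ ρ.ker) ≤ 512 := by
    rw [← card_ker]
    exact Nat.le_of_dvd Nat.card_pos (Subgroup.card_dvd_of_le inf_le_right)
  exact Nat.mul_le_mul h1 h2

/-- **centralizers of the elements over `A5 × A5`** -/
theorem card_le_LL {x : PP} (hx : ρ x ∈ LL) (h1 : ρ x ≠ 1) : Nat.card ↥(Subgroup.centralizer ({x} : Set PP)) ≤ 25600 := by
  obtain ⟨a, b, hab⟩ := mem_LL.1 hx
  by_cases ha : a = 1
  · by_cases hb : b = 1
    · exact absurd (by rw [← hab, ha, hb, map_one, map_one, mul_one]) h1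
    · obtain ⟨u, hu⟩ := ρ_surj (e [1])
      rw [← card_cent_conj u x]
      refine le_trans (card_A (x := u * x * u⁻¹) hb ?_) (by norm_num)
      rw [map_mul, map_mul, map_inv, hu, ← hab, ha, map_one, one_mul, e1_A]
  · by_cases hb : b = 1
    · exact le_trans (card_A ha (by rw [← hab, hb, map_one, mul_one])) (by norm_num)
    · exact card_AB ha hb hab.symm

theorem i4_conj {x : Cfsg.Spor.HN} (c : Cfsg.Spor.HN) (h : I4 (c * x * c⁻¹)) : I4 x := by
  obtain ⟨s, t, u, v, hs, ht, hu, hv, h1⟩ := h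
  have key : ∀ y : Cfsg.Spor.HN, y * y = 1 → c⁻¹ * y * c * (c⁻¹ * y * c) = 1 := by
    intro y hy
    calc c⁻¹ * y * c * (c⁻¹ * y * c) = c⁻¹ * (y * y) * c := by group
      _ = 1 := by rw [hy]; group
  refine ⟨c⁻¹ * s * c, c⁻¹ * t * c, c⁻¹ * u * c, c⁻¹ * v * c, key s hs, key t ht, key u hu, key v hv, ?_⟩
  calc x = c⁻¹ * (c * x * c⁻¹) * c := by group
    _ = _ := by rw [h1]; group

/-- **elements with a power conjugate to `W0`** -/
theorem i4_of_conj_W0 (hT : ∀ g : Cfsg.Spor.HN, Nat.card (Subgroup.centralizer ({g} : Set Cfsg.Spor.HN)) ≤ 28880 → I4 g)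
    {g : Cfsg.Spor.HN} {n : ℕ} (h : IsConj (g ^ n) W0) : I4 g := by
  obtain ⟨c, hc⟩ := isConj_iff.1 h
  apply i4_conj c
  have h1 : (c * g * c⁻¹) ^ n = W0 := by rw [conj_pow, hc]
  generalize c * g * c⁻¹ = y at h1
  by_cases hm : y ∈ MM
  · obtain ⟨hyP, hy⟩ := mem_MM.1 hm
    by_cases h2 : ρ ⟨y, hyP⟩ = 1
    · exact i4_ker (x := ⟨y, hyP⟩) h2
    · apply hT
      refine le_trans (le_trans (le_of_eq ?_) (card_le_LL hy h2)) (by norm_num)
      have hle : Subgroup.centralizer ({y} : Set Cfsg.Spor.HN) ≤ PP := by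
        intro v hv
        rw [Subgroup.mem_centralizer_singleton_iff] at hv
        rw [mem_PP, ← h1]
        exact ((show Commute v y from hv).pow_right n).eq
      refine Nat.card_congr
        { toFun := fun v => ⟨⟨v, hle v.2⟩, ?_⟩
          invFun := fun v => ⟨(v : PP), ?_⟩
          left_inv := fun _ => rfl
          right_inv := fun _ => rfl }
      · rw [Subgroup.mem_centralizer_singleton_iff]
        exact Subtype.ext (Subgroup.mem_centralizer_singleton_iff.1 v.2)
      · rw [Subgroup.mem_centralizer_singleton_iff]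
        exact congrArg Subtype.val (Subgroup.mem_centralizer_singleton_iff.1 v.2)
  · exact hT y ((card_le_of_pow h1 hm).trans (by norm_num))

end Cfsg.Agent.H728.Four.HNCent
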